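import Groth.Agent.Lib.FieldExt12.Model
import Groth.Agent.Lib.LimShf14.Pic
import Groth.Agent.Lib.CurveCoh17.EtaleEuler
import Groth.Agent.Lib.RelAmple18.Basic
import Groth.Agent.Lib.AmpleDesc12.Main
import Groth.Agent.S9223
import Groth.Agent.S4438

/-!
# An ample module on a base change to a field extension gives one on the scheme
-/

set_option autoImplicit false
set_option linter.style.haveILetI false
set_option backward.isDefEq.respectTransparency false
set_option backward.isDefEq.respectTransparency.types false

universe u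

open CategoryTheory CategoryTheory.Limits AlgebraicGeometry

noncomputable section

namespace Groth.Agent.AmpleField2

/-- Existence of an ample module descends along field extensions. -/
theorem exists_isAmple {k : Type u} [Field k] {X : Scheme.{u}} (p : X ⟶ Spec (CommRingCat.of k))
    (K : Type u) [Field K] [Algebra k K]
    (L : (pullback p (Spec.map (CommRingCat.ofHom (algebraMap k K)))).Modules) (hL : CohB1.IsAmple L) :
    ∃ M : X.Modules, CohB1.IsAmple M := by
  let φ := Spec.map (CommRingCat.ofHom (algebraMap k K))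
  haveI : Surjective φ := by
    refine ⟨fun z => ?_⟩
    obtain ⟨P⟩ : Nonempty (PrimeSpectrum K) := inferInstance
    exact ⟨P, Subsingleton.elim (α := PrimeSpectrum k) _ _⟩
  haveI : IsAffineHom φ := isAffineHom_of_isAffine φ
  let q := pullback.fst p φ
  haveI : Surjective q := MorphismProperty.pullback_fst (P := @Surjective) p φ inferInstance
  haveI : IsAffineHom q := MorphismProperty.pullback_fst (P := @IsAffineHom) p φ inferInstance
  haveI := hL.2.1
  haveI := Amp.quasiSeparatedSpace_of_isAmple hL
  haveI : CompactSpace X := by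
    refine ⟨?_⟩
    rw [← Set.range_eq_univ.mpr q.surjective]
    exact isCompact_range q.continuous
  haveI : QuasiSeparatedSpace X := AmpleDesc12.quasiSeparatedSpace_of_surjective q
  haveI : QuasiCompact p := quasiCompact_of_compactSpace p
  let D := Descend.pbDiagram (FieldExt12.sys k K) (FieldExt12.str k K) p
  let c := Descend.pbCone (FieldExt12.sys k K) (FieldExt12.str k K) p (FieldExt12.cone k K)
    (FieldExt12.cone_str k K) (IsPullback.of_hasPullback p φ)
  have hc : IsLimit c := Descend.pbIsLimit (FieldExt12.sys k K) (FieldExt12.str k K) p (FieldExt12.cone k K)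
    (FieldExt12.cone_str k K) (IsPullback.of_hasPullback p φ) (FieldExt12.isLimitCone k K)
  haveI : ∀ (i j : (FieldExt12.Idx k K)ᵒᵖ) (f : i ⟶ j), IsAffineHom (D.map f) := fun i j f =>
    Descend.pb_isAffineHom_map (FieldExt12.sys k K) (FieldExt12.str k K) p f
  haveI : ∀ i, CompactSpace (D.obj i) := fun i =>
    Descend.pb_compactSpace (FieldExt12.sys k K) (FieldExt12.str k K) p i
  haveI : ∀ i, QuasiSeparatedSpace (D.obj i) := fun i =>
    Descend.pb_quasiSeparatedSpace (FieldExt12.sys k K) (FieldExt12.str k K) p i
  obtain ⟨i, y, hy⟩ := LimShf14.exists_picSet_rep D c hc ⟨PicF.cl L, L, rfl, hL.1⟩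
  obtain ⟨Li, hLi, hLiinv⟩ := y.2
  rw [← hLi] at hy
  obtain ⟨e⟩ : Nonempty ((Scheme.Modules.pullback (c.π.app i)).obj Li ≅ L) := LimShf14.iso_of_cl_eq hy
  have hamp : CohB1.IsAmple ((Scheme.Modules.pullback (c.π.app i)).obj Li) := Amp.isAmple_of_iso e.symm hL
  obtain ⟨j, ψ, hj⟩ := Groth.Agent.S9223.result D c hc i Li hLiinv hamp
  let A := j.unop.1
  haveI : Algebra.FiniteType k A := (Subalgebra.fg_iff_finiteType A).1 j.unop.2
  haveI : Nontrivial A := A.val.toRingHom.domain_nontrivial
  obtain ⟨k', _, _, hfin, ⟨χ⟩⟩ := FieldExt12.exists_finite_point (k := k) A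
  let v := Spec.map (CommRingCat.ofHom (algebraMap k A))
  let w := Spec.map (CommRingCat.ofHom (algebraMap k k'))
  let s := Spec.map (CommRingCat.ofHom χ.toRingHom)
  have hsv : s ≫ v = w := by
    rw [← Spec.map_comp, ← CommRingCat.ofHom_comp]
    exact congrArg (fun f => Spec.map (CommRingCat.ofHom f)) (RingHom.ext fun x => χ.commutes x)
  haveI : IsFinite w := (IsFinite.SpecMap_iff _).2 (RingHom.finite_algebraMap.2 hfin)
  haveI : Flat w := Flat.SpecMap_iff.2 (RingHom.flat_algebraMap_iff.2 inferInstance)
  haveI : Surjective w := by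
    refine ⟨fun z => ?_⟩
    obtain ⟨P⟩ : Nonempty (PrimeSpectrum k') := inferInstance
    exact ⟨P, Subsingleton.elim (α := PrimeSpectrum k) _ _⟩
  haveI : LocallyOfFinitePresentation w := inferInstance
  let g : pullback p w ⟶ X := pullback.fst p w
  haveI : IsFinite g := MorphismProperty.pullback_fst (P := @IsFinite) p w inferInstance
  haveI : Flat g := MorphismProperty.pullback_fst (P := @Flat) p w inferInstance
  haveI : Surjective g := MorphismProperty.pullback_fst (P := @Surjective) p w inferInstance
  haveI : LocallyOfFinitePresentation g :=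
    MorphismProperty.pullback_fst (P := @LocallyOfFinitePresentation) p w inferInstance
  let m : pullback p w ⟶ D.obj j :=
    pullback.lift (pullback.fst p w) (pullback.snd p w ≫ s)
      (by rw [Category.assoc]; show _ = _ ≫ s ≫ v; rw [hsv, pullback.condition])
  haveI : IsAffineHom v := isAffineHom_of_isAffine v
  haveI : IsAffineHom m := by
    haveI : IsAffineHom (pullback.fst p v) := MorphismProperty.pullback_fst (P := @IsAffineHom) p v inferInstance
    haveI : IsAffineHom (m ≫ pullback.fst p v) := by
      rw [show m ≫ pullback.fst p v = g from pullback.lift_fst _ _ _]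
      infer_instance
    exact IsAffineHom.of_comp m (pullback.fst p v)
  have hk' : CohB1.IsAmple ((Scheme.Modules.pullback m).obj ((Scheme.Modules.pullback (D.map ψ)).obj Li)) :=
    Amp.isAmple_pullback_of_isAffineHom m hj
  obtain ⟨M, -, hM⟩ := (Groth.Agent.S4438.result p g (CurveCoh17.isFinLocFree_pushO g)).2
    ⟨_, hk'.1, (RA.isRelAmple_iff_isAmple _).2 hk'⟩
  exact ⟨M, (RA.isRelAmple_iff_isAmple _).1 hM⟩

end Groth.Agent.AmpleField2
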