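import Groth.Agent.Lib.AmpleField2.Basic
import Groth.Agent.Lib.FpqcDesc.Basic
import Groth.Agent.Lib.AmpleImm18.Over
import Groth.Prelude.Def_RelProj

/-!
# Quasi-projectivity descends along field extensions
-/

set_option autoImplicit false
set_option linter.style.haveILetI false
set_option backward.isDefEq.respectTransparency false

universe u

open CategoryTheory CategoryTheory.Limits MorphismProperty AlgebraicGeometry

noncomputable section

namespace Groth.Agent.AmpleField2

variable {k : Type u} [Field k] {X : Scheme.{u}} (p : X ⟶ Spec (CommRingCat.of k))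
    (K : Type u) [Field K] [Algebra k K]

theorem cover_prop : (@Surjective ⊓ @Flat ⊓ @QuasiCompact : MorphismProperty Scheme.{u})
    (Spec.map (CommRingCat.ofHom (algebraMap k K))) := by
  refine ⟨⟨⟨fun z => ?_⟩, ?_⟩, inferInstance⟩
  · obtain ⟨P⟩ : Nonempty (PrimeSpectrum K) := inferInstance
    exact ⟨P, Subsingleton.elim (α := PrimeSpectrum k) _ _⟩
  · exact Flat.SpecMap_iff.2 (RingHom.flat_algebraMap_iff.2 inferInstance)

/-- The base change of a quasi-compact morphism with an ample module gives the same over `k`. -/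
theorem exists_isQuasiProjective
    [LocallyOfFiniteType (pullback.snd p (Spec.map (CommRingCat.ofHom (algebraMap k K))))]
    (L : (pullback p (Spec.map (CommRingCat.ofHom (algebraMap k K)))).Modules) (hL : CohB1.IsAmple L) :
    LocallyOfFiniteType p ∧ QuasiCompact p ∧ ∃ M : X.Modules, CohB1.IsAmple M := by
  obtain ⟨M, hM⟩ := exists_isAmple p K L hL
  haveI := hM.2.1
  refine ⟨?_, quasiCompact_of_compactSpace p, M, hM⟩
  exact of_pullback_snd_of_descendsAlong (P := @LocallyOfFiniteType) (cover_prop K) inferInstance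

/-- An immersion into a projective space over a field gives a module of finite type with an ample one. -/
theorem isAmple_of_immersion {n : ℕ} {X : Scheme.{u}} (q : X ⟶ Spec (CommRingCat.of k))
    (i : X ⟶ CohB1.ProjSpaceOver n (Spec (CommRingCat.of k))) [IsImmersion i]
    (hi : i ≫ CohB1.ProjSpaceOver.toBase n (Spec (CommRingCat.of k)) = q) :
    LocallyOfFiniteType q ∧
      CohB1.IsAmple ((Scheme.Modules.pullback i).obj (_root_.Twist.twistOver n (Spec (CommRingCat.of k)) 1)) := by
  haveI : IsLocallyNoetherian (CohB1.ProjSpaceOver n (Spec (CommRingCat.of k))) :=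
    LocallyOfFiniteType.isLocallyNoetherian (CohB1.ProjSpaceOver.toBase n _)
  haveI : CompactSpace (CohB1.ProjSpaceOver n (Spec (CommRingCat.of k))) :=
    QuasiCompact.compactSpace_of_compactSpace (CohB1.ProjSpaceOver.toBase n _)
  haveI : IsNoetherian (CohB1.ProjSpaceOver n (Spec (CommRingCat.of k))) := {}
  haveI : CompactSpace X := by
    refine ⟨i.isEmbedding.isInducing.isCompact_iff.2 ?_⟩
    exact TopologicalSpace.NoetherianSpace.isCompact _
  refine ⟨hi ▸ inferInstance, ?_⟩
  exact Amp.isAmple_pullback_of_isInducing i i.isEmbedding.isInducing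
    (AmpleImm18.isAmple_twistOver n (Spec (CommRingCat.of k)))

variable {K}

/-- Quasi-projectivity in the immersion form descends. -/
theorem exists_immersion {n : ℕ}
    (i : pullback p (Spec.map (CommRingCat.ofHom (algebraMap k K))) ⟶
      CohB1.ProjSpaceOver n (Spec (CommRingCat.of K))) [IsImmersion i]
    (hi : i ≫ CohB1.ProjSpaceOver.toBase n (Spec (CommRingCat.of K)) =
      pullback.snd p (Spec.map (CommRingCat.ofHom (algebraMap k K)))) :
    ∃ (m : ℕ) (j : X ⟶ CohB1.ProjSpaceOver m (Spec (CommRingCat.of k))),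
      IsImmersion j ∧ j ≫ CohB1.ProjSpaceOver.toBase m (Spec (CommRingCat.of k)) = p := by
  obtain ⟨hlft, hamp⟩ := isAmple_of_immersion _ i hi
  haveI := hlft
  obtain ⟨hp, -, M, hM⟩ := exists_isQuasiProjective p K _ hamp
  haveI := hp
  obtain ⟨m₀, h⟩ := AmpleImm18.exists_veryAmple_of_isAmple p hM
  obtain ⟨m, j, hj, hjp, -⟩ := h m₀ le_rfl
  exact ⟨m, j, hj, hjp⟩

/-- Projectivity in the closed immersion form descends. -/
theorem exists_closedImmersion {n : ℕ}
    (i : pullback p (Spec.map (CommRingCat.ofHom (algebraMap k K))) ⟶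
      CohB1.ProjSpaceOver n (Spec (CommRingCat.of K))) [IsClosedImmersion i]
    (hi : i ≫ CohB1.ProjSpaceOver.toBase n (Spec (CommRingCat.of K)) =
      pullback.snd p (Spec.map (CommRingCat.ofHom (algebraMap k K)))) :
    ∃ (m : ℕ) (j : X ⟶ CohB1.ProjSpaceOver m (Spec (CommRingCat.of k))),
      IsClosedImmersion j ∧ j ≫ CohB1.ProjSpaceOver.toBase m (Spec (CommRingCat.of k)) = p := by
  haveI : IsProper (pullback.snd p (Spec.map (CommRingCat.ofHom (algebraMap k K)))) := hi ▸ inferInstance
  haveI : IsProper p := by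
    haveI := FpqcDesc.descendsAlong_isProper.{u}
    exact of_pullback_snd_of_descendsAlong (P := @IsProper) (cover_prop K) inferInstance
  obtain ⟨m, j, hj, hjp⟩ := exists_immersion p i hi
  refine ⟨m, j, ?_, hjp⟩
  haveI := hj
  haveI : IsProper (j ≫ CohB1.ProjSpaceOver.toBase m (Spec (CommRingCat.of k))) := hjp ▸ inferInstance
  haveI : IsProper j := MorphismProperty.of_postcomp (W := @IsProper) (W' := @IsSeparated) j
    (CohB1.ProjSpaceOver.toBase m (Spec (CommRingCat.of k))) inferInstance inferInstance
  exact IsClosedImmersion.of_isPreimmersion j j.isClosedMap.isClosed_range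

end Groth.Agent.AmpleField2
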